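import Groth.Agent.Lib.ProjQ8.DegOne
import Groth.Agent.Lib.ProjQ8.QuotAlg
import Groth.Agent.Lib.RLpsi8.FTSub

/-!
# The degree `d` part of a compatible family of ideals as a quasi-coherent module, and ideals spanned by a submodule
-/

set_option autoImplicit false
set_option linter.all false
set_option backward.isDefEq.respectTransparency false

universe u

open CategoryTheory AlgebraicGeometry TopologicalSpace Opposite DirectSum
open GrothLib.QCoh GrothLib.QCoh.SubData
open GrothLib.ProjQ8 (IsCompat resA strA resA_resA resA_strA)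

noncomputable section

namespace GrothLib.RelProjSub10

variable {S : Scheme.{u}} {𝒜 : RelProj.QCGrAlg S}
  {K : ∀ (U : S.Opens), IsAffineOpen U → Ideal (𝒜.presheaf.obj (op U))} (hK : IsCompat 𝒜 K) (d : ℕ)

variable (K) in
/-- The degree `d` part of the ideal over an affine open. -/
def degPart (U : S.Opens) (hU : IsAffineOpen U) : Submodule Γ(S, U) Γ(𝒜.toModule, U) where
  carrier := ((𝒜.deg U hU d : Set (𝒜.presheaf.obj (op U))) ∩ (K U hU : Set (𝒜.presheaf.obj (op U))))
  add_mem' ha hb := ⟨(𝒜.deg U hU d).add_mem ha.1 hb.1, (K U hU).add_mem ha.2 hb.2⟩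
  zero_mem' := ⟨(𝒜.deg U hU d).zero_mem, (K U hU).zero_mem⟩
  smul_mem' r m hm := by
    have h := SetLike.mul_mem_graded (A := 𝒜.deg U hU) (𝒜.str_mem U hU r) hm.1
    rw [zero_add] at h
    exact ⟨h, (K U hU).mul_mem_left _ hm.2⟩

theorem mem_degPart {U : S.Opens} (hU : IsAffineOpen U) (s : Γ(𝒜.toModule, U)) :
    s ∈ degPart K d U hU ↔ (show 𝒜.presheaf.obj (op U) from s) ∈ 𝒜.deg U hU d ∧
      (show 𝒜.presheaf.obj (op U) from s) ∈ K U hU := Iff.rfl

include hK in
/-- A power of the equation of a basic open moves a section into the degree `d` part. -/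
theorem degPart_kill {U : S.Opens} (hU : IsAffineOpen U) (g : Γ(S, U)) (t : Γ(𝒜.toModule, U))
    (ht : rr (S.basicOpen_le g) t ∈ degPart K d _ (hU.basicOpen g)) :
    ∃ m : ℕ, g ^ m • t ∈ degPart K d U hU := by
  classical
  have hD : IsAffineOpen (S.basicOpen g) := hU.basicOpen g
  let ψ := 𝒜.res hU hD (S.basicOpen_le g)
  letI := ψ.toRingHom.toAlgebra
  haveI : IsLocalization.Away (strA 𝒜 U g) (𝒜.presheaf.obj (op (S.basicOpen g))) := 𝒜.isQC U hU g
  let a : 𝒜.presheaf.obj (op U) := t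
  obtain ⟨n, hn⟩ := hK.exists_kill U hU g a ht.2
  let c := DirectSum.decompose (𝒜.deg U hU) a
  have hk : ∀ e, e ≠ d → ∃ k : ℕ, strA 𝒜 U g ^ k * (c e : 𝒜.presheaf.obj (op U)) = 0 := fun e he => by
    have h1 : ψ (c e : 𝒜.presheaf.obj (op U)) = ψ 0 := by
      rw [map_zero, GradedRingHom.map_directSumDecompose]
      exact DirectSum.decompose_of_mem_ne (𝒜.deg _ hD) (show ψ a ∈ _ from ht.1) (Ne.symm he)
    obtain ⟨⟨_, k, rfl⟩, hk⟩ := IsLocalization.exists_of_eq (M := Submonoid.powers (strA 𝒜 U g))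
      (S := 𝒜.presheaf.obj (op (S.basicOpen g))) h1
    exact ⟨k, by simpa using hk⟩
  choose! k hk using hk
  let m := c.support.sup k + n
  refine ⟨m, ?_, ?_⟩
  · show strA 𝒜 U (g ^ m) * a ∈ 𝒜.deg U hU d
    rw [← DirectSum.sum_support_decompose (𝒜.deg U hU) a, Finset.mul_sum, map_pow]
    refine sum_mem fun e he => ?_
    have h0 : strA 𝒜 U g ^ m ∈ 𝒜.deg U hU 0 := by simpa using SetLike.pow_mem_graded m (𝒜.str_mem U hU g)
    by_cases h1 : e = d
    · subst h1
      have := SetLike.mul_mem_graded h0 (SetLike.coe_mem (c e))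
      rwa [zero_add] at this
    · obtain ⟨r, hr⟩ := Nat.exists_eq_add_of_le
        ((Finset.le_sup (f := k) he).trans (Nat.le_add_right _ n) : k e ≤ m)
      rw [show m = r + k e by rw [add_comm]; exact hr, pow_add, mul_assoc, hk e h1, mul_zero]
      exact zero_mem _
  · show strA 𝒜 U (g ^ m) * a ∈ K U hU
    rw [map_pow, show m = c.support.sup k + n from rfl, pow_add, mul_assoc]
    exact Ideal.mul_mem_left _ _ hn

include hK in
theorem degPart_rr {U V : S.Opens} (hU : IsAffineOpen U) (hV : IsAffineOpen V) (h : V ≤ U)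
    {s : Γ(𝒜.toModule, U)} (hs : s ∈ degPart K d U hU) : rr h s ∈ degPart K d V hV := by
  refine Submodule.mem_of_span_eq_top_of_smul_pow_mem (degPart K d V hV)
    {g | ∃ m : ℕ, g ^ m • rr h s ∈ degPart K d V hV} ?_ _ fun g => g.2
  refine hV.iSup_basicOpen_eq_self_iff.1 (le_antisymm (iSup_le fun g => S.basicOpen_le _) fun x hx => ?_)
  obtain ⟨g, g', hgg, hxg⟩ := exists_basicOpen_le_affine_inter hU hV x ⟨h hx, hx⟩
  refine Opens.mem_iSup.2 ⟨⟨g', degPart_kill hK d hV g' _ ?_⟩, hgg ▸ hxg⟩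
  rw [rr_rr]
  have key : ∀ (D : S.Opens) (_ : D = S.basicOpen g') (hD : IsAffineOpen D) (hDU : D ≤ U),
      rr hDU s ∈ degPart K d D hD → rr ((S.basicOpen_le g').trans h) s ∈ degPart K d _ (hV.basicOpen g') := by
    rintro D rfl hD hDU hmem
    exact hmem
  exact key _ hgg (hU.basicOpen g) (S.basicOpen_le g)
    ⟨𝒜.map_mem hU _ (S.basicOpen_le g) hs.1, hK.res U hU g _ hs.2⟩

/-- The degree `d` part of the ideals as a submodule of the algebra. -/
def degData : SubData 𝒜.toModule where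
  sec T :=
    { carrier := {s | ∀ (V : S.Opens) (hV : IsAffineOpen V) (h : V ≤ T), rr h s ∈ degPart K d V hV}
      add_mem' := fun {a b} ha hb V hV h => by rw [map_add]; exact add_mem (ha V hV h) (hb V hV h)
      zero_mem' := fun V hV h => by rw [map_zero]; exact zero_mem _
      smul_mem' := fun r s hs V hV h => by rw [rr_smul]; exact Submodule.smul_mem _ _ (hs V hV h) }
  map_mem {U W} i s hs V hV h := by
    change rr h (rr i.le s) ∈ _
    rw [rr_rr]
    exact hs V hV _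
  locality {U} s hs V hV h := by
    refine Submodule.mem_of_span_eq_top_of_smul_pow_mem (degPart K d V hV)
      {g | ∃ m : ℕ, g ^ m • rr h s ∈ degPart K d V hV} ?_ _ fun g => g.2
    refine hV.iSup_basicOpen_eq_self_iff.1 (le_antisymm (iSup_le fun g => S.basicOpen_le _) fun x hx => ?_)
    obtain ⟨W, i, hxW, hW⟩ := hs x (h hx)
    obtain ⟨g, hg, hxg⟩ := exists_basicOpen_mem hV hx hxW
    refine Opens.mem_iSup.2 ⟨⟨g, degPart_kill hK d hV g _ ?_⟩, hxg⟩
    have := hW _ (hV.basicOpen g) hg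
    change rr hg (rr i.le s) ∈ _ at this
    rw [rr_rr] at this ⊢
    exact this

theorem mem_degData_iff {U : S.Opens} (hU : IsAffineOpen U) (s : Γ(𝒜.toModule, U)) :
    s ∈ (degData hK d).sec U ↔ s ∈ degPart K d U hU := by
  refine ⟨fun hs => ?_, fun hs V hV h => degPart_rr hK d hU hV h hs⟩
  have := hs U hU le_rfl
  rwa [rr_self] at this

theorem isQuasicoherent_degData : (degData hK d).obj.IsQuasicoherent := by
  haveI := ProjQ8.isQuasicoherent_toModule 𝒜
  refine (degData hK d).isQuasicoherent fun U hU g t ht => ?_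
  obtain ⟨m, hm⟩ := degPart_kill hK d hU g t ((mem_degData_iff hK d _ _).1 ht)
  exact ⟨m, (mem_degData_iff hK d hU _).2 hm⟩

/-- The ideals spanned by the image of a quasi-coherent module in one degree are compatible. -/
theorem isCompat_span {F : S.Modules} [F.IsQuasicoherent] (ι : F ⟶ 𝒜.toModule)
    (hι : ∀ (U : S.Opens) (hU : IsAffineOpen U) (x : Γ(F, U)), (ι.app U) x ∈ 𝒜.deg U hU d) :
    IsCompat 𝒜 fun U _ => (Ideal.span (Set.range (ι.app U)) : Ideal (𝒜.presheaf.obj (op U))) := by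
  have hnat : ∀ {U V : S.Opens} (h : V ≤ U) (x : Γ(F, U)),
      resA 𝒜 h (show 𝒜.presheaf.obj (op U) from ι.app U x) =
        (show 𝒜.presheaf.obj (op V) from ι.app V (rr h x)) := fun {U V} h x =>
    (ConcreteCategory.congr_hom (ι.mapPresheaf.naturality (homOfLE h).op) x).symm
  refine ⟨fun U hU => Ideal.homogeneous_span _ _ ?_, fun U hU s a ha => ?_, fun U hU s n a _ ha => ?_⟩
  · rintro _ ⟨x, rfl⟩
    exact ⟨d, hι U hU x⟩
  · suffices hle : Ideal.map (resA 𝒜 (S.basicOpen_le s))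
          (Ideal.span (Set.range (ι.app U)) : Ideal (𝒜.presheaf.obj (op U))) ≤
        (Ideal.span (Set.range (ι.app (S.basicOpen s))) : Ideal (𝒜.presheaf.obj (op (S.basicOpen s)))) from hle (Ideal.mem_map_of_mem _ ha)
    rw [Ideal.map_span, Ideal.span_le]
    rintro _ ⟨_, ⟨x, rfl⟩, rfl⟩
    exact Ideal.subset_span ⟨_, (hnat (S.basicOpen_le s) x).symm⟩
  · let ψ := 𝒜.res hU (hU.basicOpen s) (S.basicOpen_le s)
    letI := ψ.toRingHom.toAlgebra
    haveI : IsLocalization.Away (strA 𝒜 U s) (𝒜.presheaf.obj (op (S.basicOpen s))) := 𝒜.isQC U hU s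
    let I : Ideal (𝒜.presheaf.obj (op U)) := Ideal.span (Set.range (ι.app U))
    have hle : (Ideal.span (Set.range (ι.app (S.basicOpen s))) : Ideal (𝒜.presheaf.obj (op (S.basicOpen s)))) ≤
        I.map (algebraMap _ _) := by
      rw [Ideal.span_le]
      rintro _ ⟨y, rfl⟩
      obtain ⟨k, x, hx⟩ := (smulLift_and_smulSep_of_isAffineOpen hU F s).1 y
      change rr (S.basicOpen_le s) x = _ at hx
      refine (Ideal.unit_mul_mem_iff_mem _ (((IsLocalization.Away.algebraMap_isUnit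
        (S := 𝒜.presheaf.obj (op (S.basicOpen s))) (strA 𝒜 U s))).pow k)).1 ?_
      have e : algebraMap _ (𝒜.presheaf.obj (op (S.basicOpen s))) (strA 𝒜 U s) ^ k *
          (show 𝒜.presheaf.obj (op (S.basicOpen s)) from ι.app _ y) =
          algebraMap _ _ (show 𝒜.presheaf.obj (op U) from ι.app U x) := by
        show resA 𝒜 _ (strA 𝒜 U s) ^ k * _ = resA 𝒜 (S.basicOpen_le s) _
        rw [hnat, hx, resA_strA, ← map_pow]
        exact (Scheme.Modules.Hom.app_smul ι ((S.presheaf.map (homOfLE (S.basicOpen_le s)).op).hom s ^ k) y).symm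
      rw [e]
      exact Ideal.mem_map_of_mem _ (Ideal.subset_span ⟨x, rfl⟩)
    obtain ⟨⟨⟨i, hi⟩, ⟨_, k₁, rfl⟩⟩, h2⟩ :=
      (IsLocalization.mem_map_algebraMap_iff (Submonoid.powers (strA 𝒜 U s)) _).1 (hle ha)
    have h2' : algebraMap _ (𝒜.presheaf.obj (op (S.basicOpen s))) (a * strA 𝒜 U s ^ k₁) = algebraMap _ _ i := by
      rw [map_mul]; exact h2
    obtain ⟨⟨_, k₂, rfl⟩, h3⟩ := (IsLocalization.eq_iff_exists (Submonoid.powers (strA 𝒜 U s)) _).1 h2'
    refine ⟨k₂ + k₁, ?_⟩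
    change strA 𝒜 U s ^ k₂ * (a * strA 𝒜 U s ^ k₁) = strA 𝒜 U s ^ k₂ * i at h3
    rw [show strA 𝒜 U s ^ (k₂ + k₁) * a = strA 𝒜 U s ^ k₂ * (a * strA 𝒜 U s ^ k₁) by ring, h3]
    exact Ideal.mul_mem_left _ _ hi

end GrothLib.RelProjSub10
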