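import Groth.Agent.Lib.RelProjSub10.Model
import Groth.Agent.Lib.RelProjSub10.SubMod
import Mathlib.AlgebraicGeometry.Morphisms.FinitePresentation
import Mathlib.AlgebraicGeometry.Limits

/-!
# A finitely presented closed subscheme of a relative Proj is cut out by a module of finite type in one degree
-/

set_option autoImplicit false
set_option linter.all false
set_option backward.isDefEq.respectTransparency false

universe u

open CategoryTheory CategoryTheory.Limits AlgebraicGeometry TopologicalSpace Opposite HomogeneousLocalization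
open scoped HomogeneousIdeal
open GrothLib.QCoh GrothLib.QCoh.SubData

noncomputable section

namespace GrothLib.RelProjSub10

open GrothLib.ProjQ8 (sec IsCompat)

/-- The equations of a finitely presented closed subscheme in an affine chart are finitely generated. -/
theorem ker_sec_fg {X P : Scheme.{u}} (i : X ⟶ P) [IsClosedImmersion i] [LocallyOfFinitePresentation i]
    {R : CommRingCat.{u}} (a : Spec R ⟶ P) : (RingHom.ker (sec i a)).FG := by
  haveI : IsAffine (pullback i a) := isAffine_of_isAffineHom (pullback.snd i a)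
  haveI : LocallyOfFinitePresentation (pullback.snd i a) := MorphismProperty.pullback_snd _ _ inferInstance
  have h1 : RingHom.FinitePresentation (pullback.snd i a).appTop.hom :=
    HasRingHomProperty.appTop @LocallyOfFinitePresentation _ inferInstance
  have h2 : RingHom.FinitePresentation (sec i a) :=
    h1.comp (RingHom.FinitePresentation.of_bijective (ConcreteCategory.bijective_of_isIso (Scheme.ΓSpecIso R).inv))
  algebraize [sec i a]
  exact Algebra.FinitePresentation.ker_fG_of_surjective (Algebra.ofId _ _) (ProjQ8.sec_surjective i a)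

variable {S P Z : Scheme.{u}} (𝒜 : RelProj.QCGrAlg S) (p : P ⟶ S)
  (chart : ∀ (U : S.Opens) (hU : IsAffineOpen U), (((p ⁻¹ᵁ U : P.Opens) : Scheme.{u}) ≅ Proj (𝒜.deg U hU)))
  (i : Z ⟶ P) [IsClosedImmersion i]

/-- The equations of a closed subscheme over the affine opens. -/
abbrev eqsAt (U : S.Opens) (hU : IsAffineOpen U) : Ideal (𝒜.presheaf.obj (op U)) :=
  eqs i (RelProj.emb p chart U hU)

theorem isCompat_eqs (hP : RelProj.IsRelProj 𝒜 p chart) [QuasiCompact p] :
    IsCompat 𝒜 (eqsAt 𝒜 p chart i) := by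
  choose T hT hcov using exists_cover 𝒜 p chart
  exact
    { homogeneous := fun U hU => eqs_isHomogeneous i _
      res := fun U hU s a ha =>
        eqs_le_comap i _ (𝒜.res hU (hU.basicOpen s) (S.basicOpen_le s)) _ (𝒜.irrelevant_le_map U hU s)
          (RelProj.map_res_emb hP U hU s) (T U hU) (hT U hU) (hcov U hU) ha
      kill := fun U hU s n a _ ha =>
        exists_kill i _ (𝒜.res hU (hU.basicOpen s) (S.basicOpen_le s)) _ (𝒜.irrelevant_le_map U hU s)
          (RelProj.map_res_emb hP U hU s) (GrothLib.ProjQ8.strA 𝒜 U s) (𝒜.str_mem U hU s) (𝒜.isQC U hU s)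
          (T U hU) (hT U hU) (hcov U hU) ha }

/-- Over an open away from the closed subscheme every element is an equation. -/
theorem eqsAt_eq_top {W : S.Opens} (hW : IsAffineOpen W) (h : Disjoint (W : Set S) (Set.range (i ≫ p).base)) :
    eqsAt 𝒜 p chart i W hW = ⊤ := by
  rw [Ideal.eq_top_iff_one]
  intro d t ht hd
  haveI : IsEmpty ↥(pullback i (ach (RelProj.emb p chart W hW) ht hd)) := ⟨fun z => by
    have e := congrArg (fun f => f z) (pullback.condition (f := i) (g := ach (RelProj.emb p chart W hW) ht hd))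
    simp only [Scheme.Hom.comp_apply, ach] at e
    have hmem : i (pullback.fst i (ach (RelProj.emb p chart W hW) ht hd) z) ∈ p ⁻¹ᵁ W := by
      rw [← RelProjK.opensRange_emb p chart W hW, e]
      exact ⟨_, rfl⟩
    exact Set.disjoint_left.1 h hmem ⟨_, rfl⟩⟩
  refine ⟨0, ?_⟩
  rw [pow_zero, one_mul]
  exact Ideal.subset_span ⟨0, by rw [zero_smul]; exact SetLike.one_mem_graded _, Subsingleton.elim _ _⟩

theorem exists_ft (hP : RelProj.IsRelProj 𝒜 p chart) [CompactSpace S] [QuasiSeparatedSpace S] [QuasiCompact p]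
    [LocallyOfFinitePresentation i] {J' : Type u} [Finite J'] (W : J' → S.Opens) (hW : ∀ k, IsAffineOpen (W k))
    (G : ℕ → ∀ k, Set (𝒜.presheaf.obj (op (W k)))) (hGfin : ∀ d k, (G d k).Finite)
    (hGmem : ∀ d k, ∀ a ∈ G d k, a ∈ 𝒜.deg (W k) (hW k) d ∧ a ∈ eqsAt 𝒜 p chart i (W k) (hW k)) :
    ∃ (d : ℕ) (_ : 0 < d) (Q : SubData (degData (isCompat_eqs 𝒜 p chart i hP) d).obj) (_ : SubData.LocGen Q ⊤)
      (_ : ∀ k, ∀ y, (show 𝒜.presheaf.obj (op (W k)) from (degData (isCompat_eqs 𝒜 p chart i hP) d).ι.app (W k) y) ∈ G d k →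
        y ∈ Q.sec (W k))
      (ℬ : RelProj.QCGrAlg S) (φ : 𝒜.toQCAlg ⟶ ℬ.toQCAlg) (hφ : RelProj.IsGradedHom φ) (PB : Scheme.{u})
      (pB : PB ⟶ S) (chartB : ∀ (U : S.Opens) (hU : IsAffineOpen U), (((pB ⁻¹ᵁ U : PB.Opens) : Scheme.{u}) ≅ Proj (ℬ.deg U hU)))
      (h : PB ⟶ P) (e : PB ≅ Z),
      (∀ (U : S.Opens), IsAffineOpen U → Function.Surjective (φ.hom.app (op U)).hom ∧
          RingHom.ker (φ.hom.app (op U)).hom = (Ideal.span (Set.range
            ((Q.ι ≫ (degData (isCompat_eqs 𝒜 p chart i hP) d).ι).app U)) : Ideal (𝒜.presheaf.obj (op U)))) ∧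
        RelProj.IsRelProj ℬ pB chartB ∧ RelProj.IsProjQMap (RelProj.QGrHom.ofHom φ hφ) p chart pB chartB h ∧
        e.hom ≫ i = h := by
  classical
  have hK := isCompat_eqs 𝒜 p chart i hP
  choose T hT hTcov using exists_cover 𝒜 p chart
  obtain ⟨A₀, hA₀⟩ := (isCompact_univ (X := S)).elim_finite_subcover (fun U : S.affineOpens => (U.1 : Set S))
    (fun U => U.1.2) fun x _ => by
      obtain ⟨U, hU, hxU, -⟩ := exists_isAffineOpen_mem_and_subset (x := x) (U := ⊤) trivial
      exact Set.mem_iUnion.2 ⟨⟨U, hU⟩, hxU⟩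
  let J := Σ U : A₀, {s // s ∈ T U.1.1 U.1.2}
  haveI : Fintype J := Fintype.ofFinite J
  let V : J → S.Opens := fun j => j.1.1.1
  have hV : ∀ j : J, IsAffineOpen (V j) := fun j => j.1.1.2
  let e : J → ℕ := fun j => j.2.1.1
  have he : ∀ j, 0 < e j := fun j => (hT _ _ _ j.2.2).1
  let t : ∀ j, 𝒜.presheaf.obj (op (V j)) := fun j => j.2.1.2
  have ht : ∀ j, t j ∈ 𝒜.deg (V j) (hV j) (e j) := fun j => (hT _ _ _ j.2.2).2
  let a' := fun j : J => ach (RelProj.emb p chart (V j) (hV j)) (ht j) (he j)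
  choose gens hgens using fun j : J => ker_sec_fg i (a' j)
  -- numerators
  have hnum : ∀ (j : J) (z : Away (𝒜.deg (V j) (hV j)) (t j)), z ∈ gens j →
      ∃ (n N : ℕ) (a : 𝒜.presheaf.obj (op (V j))) (ha : a ∈ 𝒜.deg (V j) (hV j) (n • e j)),
        z = Away.mk (𝒜.deg (V j) (hV j)) (ht j) n a ha ∧ t j ^ N * a ∈ eqsAt 𝒜 p chart i (V j) (hV j) := by
    intro j z hz
    obtain ⟨n, a, ha, rfl⟩ := Away.mk_surjective (𝒜.deg (V j) (hV j)) (ht j) z
    have h0 : sec i (a' j) (Away.mk (𝒜.deg (V j) (hV j)) (ht j) n a ha) = 0 := by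
      rw [← RingHom.mem_ker, ← hgens j]; exact Ideal.subset_span hz
    obtain ⟨N, hN⟩ := (sec_eq_zero_iff i _ (T _ (hV j)) (hT _ (hV j)) (hTcov _ (hV j)) (ht j) (he j) n a ha).1 h0
    exact ⟨n, N, a, ha, rfl, hN⟩
  choose! n N a ha hza haN using hnum
  let M : ℕ := 1 + Finset.univ.sup fun j => (gens j).sup fun z => n j z + N j z
  let d : ℕ := M * ∏ j, e j
  have hd : 0 < d := Nat.mul_pos (Nat.add_pos_left one_pos _) (Finset.prod_pos fun j _ => he j)
  have hq : ∀ j, ∃ q, d = q * e j ∧ ∀ z ∈ gens j, n j z + N j z ≤ q := fun j => by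
    obtain ⟨c, hc⟩ := Finset.dvd_prod_of_mem e (Finset.mem_univ j)
    have hc0 : 0 < c := by
      rcases Nat.eq_zero_or_pos c with rfl | h
      · exact absurd hc (by simpa using (Finset.prod_pos fun j _ => he j).ne')
      · exact h
    refine ⟨M * c, by rw [mul_assoc]; show M * _ = _; rw [hc, mul_comm (e j)], fun z hz => ?_⟩
    calc n j z + N j z ≤ M := le_trans (le_trans (Finset.le_sup (f := fun z => n j z + N j z) hz)
          (Finset.le_sup (f := fun j => (gens j).sup fun z => n j z + N j z) (Finset.mem_univ j))) (Nat.le_add_left _ _)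
      _ ≤ M * c := Nat.le_mul_of_pos_right _ hc0
  choose q hdq hqle using hq
  let g : ∀ j : J, Away (𝒜.deg (V j) (hV j)) (t j) → 𝒜.presheaf.obj (op (V j)) := fun j z => t j ^ (q j - n j z) * a j z
  have hg : ∀ (j : J), ∀ z ∈ gens j, g j z ∈ 𝒜.deg (V j) (hV j) d ∧ g j z ∈ eqsAt 𝒜 p chart i (V j) (hV j) := fun j z hz => by
    have hle := hqle j z hz
    refine ⟨?_, pow_mem_of_le (haN j z hz) (by omega)⟩
    have := SetLike.mul_mem_graded (SetLike.pow_mem_graded (q j - n j z) (ht j)) (ha j z hz)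
    rw [← add_smul, Nat.sub_add_cancel (by omega), smul_eq_mul, ← hdq j] at this
    exact this
  -- the submodule of finite type
  let D := degData hK d
  haveI : D.obj.IsQuasicoherent := isQuasicoherent_degData hK d
  let X : J ⊕ J' → S.Opens := Sum.elim V W
  let Sx : ∀ k, Set Γ(D.obj, X k) := fun k => match k with
    | Sum.inl j => {y | (show 𝒜.presheaf.obj (op (V j)) from D.ι.app (V j) y) ∈ g j '' gens j}
    | Sum.inr k => {y | (show 𝒜.presheaf.obj (op (W k)) from D.ι.app (W k) y) ∈ G d k}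
  haveI : Fintype J' := Fintype.ofFinite J'
  obtain ⟨Q, hQ, hmem⟩ := GrothLib.RLpsi8.exists_locGen_forall_mem (F := D.obj) (Finset.univ : Finset (J ⊕ J')) X
    (fun k => by cases k with | inl j => exact hV j | inr k => exact hW k) Sx (fun k => by
      cases k with
      | inl j => exact ((gens j).finite_toSet.image (g j)).preimage (D.ι_app_injective (V j)).injOn
      | inr k => exact (hGfin d k).preimage (D.ι_app_injective (W k)).injOn)
  let ι : Q.obj ⟶ 𝒜.toModule := Q.ι ≫ D.ι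
  haveI : Q.obj.IsQuasicoherent := hQ.isQuasicoherent
  have hιmem : ∀ (U : S.Opens) (hU : IsAffineOpen U) (x : Γ(Q.obj, U)),
      (ι.app U) x ∈ 𝒜.deg U hU d ∧ (ι.app U) x ∈ eqsAt 𝒜 p chart i U hU := fun U hU x =>
    (mem_degData_iff hK d hU _).1 (D.ι_app_mem (Q.ι.app U x))
  have hK' := isCompat_span d ι fun U hU x => (hιmem U hU x).1
  have hle : ∀ (U : S.Opens) (hU : IsAffineOpen U),
      (Ideal.span (Set.range (ι.app U)) : Ideal (𝒜.presheaf.obj (op U))) ≤ eqsAt 𝒜 p chart i U hU := fun U hU => by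
    rw [Ideal.span_le]
    rintro _ ⟨x, rfl⟩
    exact (hιmem U hU x).2
  have hcov : ∀ x : P, ∃ j, x ∈ Set.range (a' j) := fun x => by
    obtain ⟨U, hU, hxU⟩ := Set.mem_iUnion₂.1 (hA₀ (Set.mem_univ (p x)))
    obtain ⟨y, hy⟩ := (GrothLib.RelProjK.opensRange_emb p chart U.1 U.2).ge (show x ∈ p ⁻¹ᵁ U.1 from hxU)
    obtain ⟨s, hs, hsy⟩ := hTcov U.1 U.2 y
    obtain ⟨w, hw⟩ := (Proj.opensRange_awayι (𝒜.deg U.1 U.2) s.2 (hT _ _ s hs).2 (hT _ _ s hs).1).ge hsy
    refine ⟨⟨⟨U, hU⟩, s, hs⟩, w, ?_⟩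
    show (Proj.awayι (𝒜.deg U.1 U.2) s.2 _ _ ≫ RelProj.emb p chart U.1 U.2) w = x
    rw [Scheme.Hom.comp_apply, hw, hy]
  have hsec : ∀ (j : J) (m : ℕ) (b : 𝒜.presheaf.obj (op (V j))) (hb : b ∈ 𝒜.deg (V j) (hV j) (m • e j)),
      sec i (a' j) (Away.mk (𝒜.deg (V j) (hV j)) (ht j) m b hb) = 0 ↔
        ∃ L, t j ^ L * b ∈ (Ideal.span (Set.range (ι.app (V j))) : Ideal (𝒜.presheaf.obj (op (V j)))) := by
    intro j m b hb
    let I : Ideal (𝒜.presheaf.obj (op (V j))) := Ideal.span (Set.range (ι.app (V j)))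
    refine ⟨fun h0 => ?_, fun ⟨L, hL⟩ =>
      (sec_eq_zero_iff i _ (T _ (hV j)) (hT _ (hV j)) (hTcov _ (hV j)) (ht j) (he j) m b hb).2
        ⟨L, hle _ (hV j) hL⟩⟩
    let L : Ideal (Away (𝒜.deg (V j) (hV j)) (t j)) :=
      (I.map (algebraMap _ (Localization.Away (t j)))).comap (algebraMap _ (Localization.Away (t j)))
    have hgen : RingHom.ker (sec i (a' j)) ≤ L := by
      rw [← hgens j, Ideal.span_le]
      intro z hz
      show algebraMap _ (Localization.Away (t j)) z ∈ I.map (algebraMap _ (Localization.Away (t j)))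
      rw [hza j z hz, HomogeneousLocalization.algebraMap_apply, Away.val_mk, Localization.mk_eq_mk',
        IsLocalization.mk'_mem_map_algebraMap_iff]
      have hdm : (show Γ(𝒜.toModule, V j) from g j z) ∈ D.sec (V j) := (mem_degData_iff hK d (hV j) _).2 (hg j z hz)
      have hQm : D.lift (U := V j) _ hdm ∈ Q.sec (V j) :=
        hmem (Sum.inl j) (Finset.mem_univ _) ⟨z, hz, (D.ι_app_lift (U := V j) _ hdm).symm⟩
      exact ⟨_, ⟨q j - n j z, rfl⟩, Ideal.subset_span ⟨Q.lift _ hQm, rfl⟩⟩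
    have h1 : algebraMap _ (Localization.Away (t j)) (Away.mk (𝒜.deg (V j) (hV j)) (ht j) m b hb) ∈
        I.map (algebraMap _ (Localization.Away (t j))) := hgen h0
    rw [HomogeneousLocalization.algebraMap_apply, Away.val_mk, Localization.mk_eq_mk',
      IsLocalization.mk'_mem_map_algebraMap_iff] at h1
    obtain ⟨_, ⟨k, rfl⟩, hk⟩ := h1
    exact ⟨k, hk⟩
  obtain ⟨ℬ, φ, hφ, PB, pB, chartB, h, e', hsurj, hker, hQ', hQmap, heq⟩ :=
    exists_model 𝒜 p chart hP i hK' V hV e he t ht hcov hsec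
  exact ⟨d, hd, Q, hQ, fun k y hy => hmem (Sum.inr k) (Finset.mem_univ _) hy, ℬ, φ, hφ, PB, pB, chartB, h, e',
    fun U hU => ⟨hsurj U hU, hker U hU⟩, hQ', hQmap, heq⟩

end GrothLib.RelProjSub10
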