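import Groth.Agent.Lib.ProjQ8.Sections
import Groth.Agent.Lib.ProjQ8.QuotRing
import Groth.Agent.Lib.RelProjK.OpenMap

/-!
# The homogeneous ideal of a closed subscheme of `Proj`, with no hypothesis on the generators
-/

set_option autoImplicit false
set_option linter.all false
set_option backward.isDefEq.respectTransparency false

universe u

open CategoryTheory CategoryTheory.Limits AlgebraicGeometry TopologicalSpace Opposite HomogeneousLocalization DirectSum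
open scoped HomogeneousIdeal

noncomputable section

namespace GrothLib.RelProjSub10

open GrothLib.ProjQ8 (sec secMap secMap_sec exists_pow_kill)

variable {A : Type u} [CommRing A] {𝒜 : ℕ → AddSubgroup A} [GradedRing 𝒜]
variable {X P : Scheme.{u}} (r : X ⟶ P) [IsClosedImmersion r] (j : Proj 𝒜 ⟶ P)

/-- The chart of a homogeneous element. -/
abbrev ach {d : ℕ} {t : A} (ht : t ∈ 𝒜 d) (hd : 0 < d) : Spec (CommRingCat.of (Away 𝒜 t)) ⟶ P :=
  Proj.awayι 𝒜 t ht hd ≫ j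

theorem mk_congr {d : ℕ} {t : A} (ht : t ∈ 𝒜 d) {n : ℕ} {a b : A} (e : a = b) (ha : a ∈ 𝒜 (n • d))
    (hb : b ∈ 𝒜 (n • d)) : Away.mk 𝒜 ht n a ha = Away.mk 𝒜 ht n b hb := by
  subst e; rfl

theorem mk_mul {d : ℕ} {t : A} (ht : t ∈ 𝒜 d) (m n : ℕ) (a b : A) (ha : a ∈ 𝒜 (m • d)) (hb : b ∈ 𝒜 (n • d))
    (hab : a * b ∈ 𝒜 ((m + n) • d)) :
    Away.mk 𝒜 ht (m + n) (a * b) hab = Away.mk 𝒜 ht m a ha * Away.mk 𝒜 ht n b hb := by
  ext
  simp only [val_mul, Away.val_mk, Localization.mk_mul]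
  congr 1
  exact Subtype.ext (pow_add t m n)

/-- The fractions vanishing on the closed subscheme. -/
def gen {d : ℕ} {t : A} (ht : t ∈ 𝒜 d) (hd : 0 < d) : Set A :=
  {b | ∃ (m : ℕ) (hb : b ∈ 𝒜 (m • d)), sec r (ach j ht hd) (Away.mk 𝒜 ht m b hb) = 0}

/-- The ideal generated by their numerators. -/
def eqI {d : ℕ} {t : A} (ht : t ∈ 𝒜 d) (hd : 0 < d) : Ideal A := Ideal.span (gen r j ht hd)

theorem eqI_isHomogeneous {d : ℕ} {t : A} (ht : t ∈ 𝒜 d) (hd : 0 < d) : (eqI r j ht hd).IsHomogeneous 𝒜 :=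
  Ideal.homogeneous_span _ _ fun _ ⟨m, hb, _⟩ => ⟨_, hb⟩

theorem eqI_congr {d d' : ℕ} {t t' : A} (ht : t ∈ 𝒜 d) (hd : 0 < d) (ht' : t' ∈ 𝒜 d') (hd' : 0 < d')
    (e : t = t') (e' : d = d') : eqI r j ht hd = eqI r j ht' hd' := by
  subst e e'; rfl

theorem pow_mem_of_le {I : Ideal A} {t x : A} {N M : ℕ} (h : t ^ N * x ∈ I) (hNM : N ≤ M) : t ^ M * x ∈ I := by
  obtain ⟨k, rfl⟩ := Nat.exists_eq_add_of_le hNM
  rw [show t ^ (N + k) * x = t ^ k * (t ^ N * x) by ring]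
  exact I.mul_mem_left _ h

/-- The homogeneous ideal of the closed subscheme. -/
def eqs : Ideal A where
  carrier := {x | ∀ (d : ℕ) (t : A) (ht : t ∈ 𝒜 d) (hd : 0 < d), ∃ N : ℕ, t ^ N * x ∈ eqI r j ht hd}
  zero_mem' := fun d t ht hd => ⟨0, by simp⟩
  add_mem' := by
    intro x y hx hy d t ht hd
    obtain ⟨N, hN⟩ := hx d t ht hd
    obtain ⟨M, hM⟩ := hy d t ht hd
    exact ⟨max N M, by
      rw [mul_add]
      exact add_mem (pow_mem_of_le hN (le_max_left _ _)) (pow_mem_of_le hM (le_max_right _ _))⟩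
  smul_mem' := by
    intro c x hx d t ht hd
    obtain ⟨N, hN⟩ := hx d t ht hd
    exact ⟨N, by rw [smul_eq_mul, mul_left_comm]; exact Ideal.mul_mem_left _ _ hN⟩

theorem eqs_isHomogeneous : (eqs r j).IsHomogeneous 𝒜 := by
  intro n x hx d t ht hd
  obtain ⟨N, hN⟩ := hx d t ht hd
  refine ⟨N, ?_⟩
  have h := eqI_isHomogeneous r j ht hd (N • d + n) hN
  rwa [coe_decompose_mul_of_left_mem_of_le 𝒜 (SetLike.pow_mem_graded N ht) (Nat.le_add_right _ _),
    Nat.add_sub_cancel_left] at h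

theorem sec_mk_zero {d : ℕ} {t : A} (ht : t ∈ 𝒜 d) (hd : 0 < d) (k : ℕ) {a : A} (ha : a ∈ 𝒜 (k • d)) (e : a = 0) :
    sec r (ach j ht hd) (Away.mk 𝒜 ht k a ha) = 0 := by
  subst e
  convert map_zero (sec r (ach j ht hd)) using 2
  ext
  rw [Away.val_mk, val_zero, Localization.mk_zero]

theorem sec_eq_zero_of_mem {d : ℕ} {t : A} (ht : t ∈ 𝒜 d) (hd : 0 < d) {y : A} (hy : y ∈ eqI r j ht hd) :
    ∀ k : ℕ, sec r (ach j ht hd) (Away.mk 𝒜 ht k (decompose 𝒜 y (k • d) : A) (SetLike.coe_mem _)) = 0 := by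
  classical
  induction hy using Submodule.closure_induction with
  | zero => intro k; exact sec_mk_zero r j ht hd k _ (by simp)
  | add a b _ _ ha hb =>
    intro k
    have e : Away.mk 𝒜 ht k (decompose 𝒜 (a + b) (k • d) : A) (SetLike.coe_mem _) =
        Away.mk 𝒜 ht k (decompose 𝒜 a (k • d) : A) (SetLike.coe_mem _) +
          Away.mk 𝒜 ht k (decompose 𝒜 b (k • d) : A) (SetLike.coe_mem _) := by
      ext
      simp only [val_add, Away.val_mk, decompose_add, DirectSum.add_apply, AddMemClass.coe_add]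
      rw [Localization.add_mk_self]
    rw [e, map_add, ha k, hb k, add_zero]
  | smul_mem c b hb =>
    intro k
    obtain ⟨m, hb, hb0⟩ := hb
    simp only [smul_eq_mul c b]
    by_cases hmk : m ≤ k
    · obtain ⟨l, rfl⟩ := Nat.exists_eq_add_of_le hmk
      have e1 : (decompose 𝒜 (c * b) ((m + l) • d) : A) = b * (decompose 𝒜 c (l • d) : A) := by
        rw [coe_decompose_mul_of_right_mem_of_le 𝒜 hb (by rw [add_smul]; exact Nat.le_add_right _ _),
          add_smul, Nat.add_sub_cancel_left, mul_comm]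
      rw [mk_congr ht e1 _ (by rw [add_smul]; exact SetLike.mul_mem_graded hb (SetLike.coe_mem _)),
        mk_mul ht m l b _ hb (SetLike.coe_mem _), map_mul, hb0, zero_mul]
    · refine sec_mk_zero r j ht hd k _ (coe_decompose_mul_of_right_mem_of_not_le 𝒜 hb ?_)
      simp only [smul_eq_mul, not_le] at hmk ⊢
      exact Nat.mul_lt_mul_of_pos_right hmk hd

theorem isLocElem_range {d d' : ℕ} {t t' : A} (ht : t ∈ 𝒜 d) (ht' : t' ∈ 𝒜 d') (hd : 0 < d) :
    IsOpenImmersion (Spec.map (CommRingCat.ofHom (awayMap 𝒜 ht' (rfl : t * t' = t * t')))) ∧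
      Set.range (Spec.map (CommRingCat.ofHom (awayMap 𝒜 ht' (rfl : t * t' = t * t')))) =
        ((PrimeSpectrum.basicOpen (Away.isLocalizationElem ht ht') : Opens (PrimeSpectrum (Away 𝒜 t))) :
          Set (PrimeSpectrum (Away 𝒜 t))) := by
  letI := (awayMap 𝒜 ht' (rfl : t * t' = t * t')).toAlgebra
  haveI := Away.isLocalization_mul ht ht' (rfl : t * t' = t * t') hd.ne'
  exact ⟨IsOpenImmersion.of_isLocalization (Away.isLocalizationElem ht ht'),
    PrimeSpectrum.localization_away_comap_range _ _⟩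

theorem ach_awayMap {d d' : ℕ} {t t' : A} (ht : t ∈ 𝒜 d) (ht' : t' ∈ 𝒜 d') (hd : 0 < d) (hdd : 0 < d + d') :
    Spec.map (CommRingCat.ofHom (awayMap 𝒜 ht' (rfl : t * t' = t * t'))) ≫ ach j ht hd =
      ach j (SetLike.mul_mem_graded ht ht') hdd := by
  simp only [ach]
  rw [Proj.SpecMap_awayMap_awayι_assoc]

/-- From `t` to `t * t'`. -/
theorem mul_mem_eqI {d d' : ℕ} {t t' : A} (ht : t ∈ 𝒜 d) (ht' : t' ∈ 𝒜 d') (hd : 0 < d) (hdd : 0 < d + d')
    {x : A} (hx : x ∈ eqI r j ht hd) : ∃ N, t' ^ N * x ∈ eqI r j (SetLike.mul_mem_graded ht ht') hdd := by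
  induction hx using Submodule.closure_induction with
  | zero => exact ⟨0, by simp⟩
  | add a b _ _ ha hb =>
    obtain ⟨N, hN⟩ := ha
    obtain ⟨M, hM⟩ := hb
    exact ⟨max N M, by
      rw [mul_add]
      exact add_mem (pow_mem_of_le hN (le_max_left _ _)) (pow_mem_of_le hM (le_max_right _ _))⟩
  | smul_mem c b hb =>
    obtain ⟨m, hb, hb0⟩ := hb
    refine ⟨m, ?_⟩
    rw [smul_eq_mul, mul_left_comm, mul_comm (t' ^ m)]
    refine Ideal.mul_mem_left _ _ (Ideal.subset_span ⟨m, ?_, ?_⟩)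
    · rw [smul_add]; exact SetLike.mul_mem_graded hb (SetLike.pow_mem_graded m ht')
    · have h := secMap_sec (i := r) _ (ach_awayMap j ht ht' hd hdd) (Away.mk 𝒜 ht m b hb)
      rw [hb0, map_zero, CommRingCat.hom_ofHom, awayMap_mk] at h
      exact h.symm

/-- From `t * t'` back to `t`. -/
theorem mem_eqI_of_mul {d d' : ℕ} {t t' : A} (ht : t ∈ 𝒜 d) (ht' : t' ∈ 𝒜 d') (hd : 0 < d) (hdd : 0 < d + d')
    {x : A} (hx : x ∈ eqI r j (SetLike.mul_mem_graded ht ht') hdd) :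
    ∃ N, (t * t') ^ N * x ∈ eqI r j ht hd := by
  induction hx using Submodule.closure_induction with
  | zero => exact ⟨0, by simp⟩
  | add a b _ _ ha hb =>
    obtain ⟨N, hN⟩ := ha
    obtain ⟨M, hM⟩ := hb
    exact ⟨max N M, by
      rw [mul_add]
      exact add_mem (pow_mem_of_le hN (le_max_left _ _)) (pow_mem_of_le hM (le_max_right _ _))⟩
  | smul_mem c b hb =>
    obtain ⟨m, hb, hb0⟩ := hb
    obtain ⟨e, rfl⟩ := Nat.exists_eq_add_of_le (hd : 1 ≤ d)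
    have hz : b * t' ^ (e * m) ∈ 𝒜 ((m * (1 + d')) • (1 + e)) := by
      have := SetLike.mul_mem_graded hb (SetLike.pow_mem_graded (e * m) ht')
      convert this using 2
      simp only [smul_eq_mul]; ring
    obtain ⟨ho, hr⟩ := isLocElem_range ht ht' hd
    haveI := ho
    obtain ⟨k, hk⟩ := exists_pow_kill (i := r) _ (ach_awayMap j ht ht' hd hdd) (Away.isLocalizationElem ht ht') hr
      (Away.mk 𝒜 ht (m * (1 + d')) (b * t' ^ (e * m)) hz) (by
        have e1 : awayMap 𝒜 ht' (rfl : t * t' = t * t') (Away.mk 𝒜 ht (m * (1 + d')) (b * t' ^ (e * m)) hz) =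
            Away.mk 𝒜 (SetLike.mul_mem_graded ht ht') m b hb *
              Away.mk 𝒜 (SetLike.mul_mem_graded ht ht') (m * d') (t' ^ (m * (1 + e + d'))) (by
                have := SetLike.pow_mem_graded (m * (1 + e + d')) ht'
                convert this using 2
                simp only [smul_eq_mul]; ring) := by
          rw [awayMap_mk]
          ext
          simp only [val_mul, Away.val_mk, Localization.mk_mul]
          rw [Localization.mk_eq_mk_iff, Localization.r_iff_exists]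
          exact ⟨1, by simp; ring⟩
        rw [CommRingCat.hom_ofHom, e1, map_mul, hb0, zero_mul])
    refine ⟨(1 + e) * k + e * m, ?_⟩
    have hg : t' ^ ((1 + e) * k) * (b * t' ^ (e * m)) ∈ 𝒜 ((k * d' + m * (1 + d')) • (1 + e)) := by
      have := SetLike.mul_mem_graded (SetLike.pow_mem_graded ((1 + e) * k) ht') hz
      convert this using 2
      simp only [smul_eq_mul]; ring
    have hmem : t' ^ ((1 + e) * k) * (b * t' ^ (e * m)) ∈ eqI r j ht hd := by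
      refine Ideal.subset_span ⟨k * d' + m * (1 + d'), hg, ?_⟩
      refine Eq.trans (congrArg (sec r (ach j ht hd)) ?_) hk
      ext
      simp only [val_mul, val_pow, Away.val_mk, Localization.mk_pow, Localization.mk_mul]
      rw [Localization.mk_eq_mk_iff, Localization.r_iff_exists]
      exact ⟨1, by simp; ring⟩
    rw [smul_eq_mul, show (t * t') ^ ((1 + e) * k + e * m) * (c * b) =
      t ^ ((1 + e) * k + e * m) * c * (t' ^ ((1 + e) * k) * (b * t' ^ (e * m))) by ring]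
    exact Ideal.mul_mem_left _ _ hmem

/-- Membership may be tested on elements whose basic opens cover. -/
theorem mem_eqs_of_cover (T : Finset (ℕ × A)) (hT : ∀ s ∈ T, 0 < s.1 ∧ s.2 ∈ 𝒜 s.1)
    (hcov : ∀ y : ProjectiveSpectrum 𝒜, ∃ s ∈ T, s.2 ∉ y.asHomogeneousIdeal) {x : A}
    (hx : ∀ (s : ℕ × A) (hs : s ∈ T), ∃ N, s.2 ^ N * x ∈ eqI r j (hT s hs).2 (hT s hs).1) : x ∈ eqs r j := by
  classical
  intro d t ht hd
  have hs : ∀ s : T, ∃ a b : ℕ, t ^ a * s.1.2 ^ b * x ∈ eqI r j ht hd := by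
    rintro ⟨⟨d', t'⟩, hs⟩
    obtain ⟨N, hN⟩ := hx _ hs
    obtain ⟨hd', ht'⟩ := hT _ hs
    obtain ⟨a, ha⟩ := mul_mem_eqI r j ht' ht hd' (Nat.add_pos_left hd' _) hN
    rw [eqI_congr r j _ _ (SetLike.mul_mem_graded ht ht') (Nat.add_pos_left hd _) (mul_comm t' t) (add_comm d' d)] at ha
    obtain ⟨b, hb⟩ := mem_eqI_of_mul r j ht ht' hd (Nat.add_pos_left hd _) ha
    refine ⟨b + a, b + N, ?_⟩
    rw [show t ^ (b + a) * t' ^ (b + N) * x = (t * t') ^ b * (t ^ a * (t' ^ N * x)) by ring]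
    exact hb
  choose a b hab using hs
  let I : Ideal A := Ideal.span (Set.range fun s : T => t ^ a s * s.1.2 ^ b s)
  have hI : I.IsHomogeneous 𝒜 := Ideal.homogeneous_span _ _ (by
    rintro _ ⟨s, rfl⟩
    exact ⟨_, SetLike.mul_mem_graded (SetLike.pow_mem_graded _ ht) (SetLike.pow_mem_graded _ (hT s.1 s.2).2)⟩)
  have hrad : t ∈ I.radical := by
    rw [hI.radical_eq, Ideal.mem_sInf]
    rintro J ⟨hJ, hIJ, hJp⟩
    by_contra htJ
    let y : ProjectiveSpectrum 𝒜 := ⟨⟨J, hJ⟩, hJp, fun hle => htJ (hle (HomogeneousIdeal.mem_irrelevant_of_mem 𝒜 hd ht))⟩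
    obtain ⟨s, hs, hsy⟩ := hcov y
    rcases hJp.mem_or_mem (hIJ (Ideal.subset_span ⟨⟨s, hs⟩, rfl⟩)) with h | h
    · exact htJ (hJp.mem_of_pow_mem _ h)
    · exact hsy (hJp.mem_of_pow_mem _ h)
  obtain ⟨M, hM⟩ := hrad
  refine ⟨M, ?_⟩
  have hle : I ≤ Submodule.comap (LinearMap.mulRight A x) (eqI r j ht hd) :=
    Submodule.span_le.2 (by rintro _ ⟨s, rfl⟩; exact hab s)
  exact hle hM

/-- A fraction vanishes on the closed subscheme exactly when its numerator is, up to a power, an equation. -/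
theorem sec_eq_zero_iff (T : Finset (ℕ × A)) (hT : ∀ s ∈ T, 0 < s.1 ∧ s.2 ∈ 𝒜 s.1)
    (hcov : ∀ y : ProjectiveSpectrum 𝒜, ∃ s ∈ T, s.2 ∉ y.asHomogeneousIdeal) {d : ℕ} {t : A} (ht : t ∈ 𝒜 d)
    (hd : 0 < d) (n : ℕ) (a : A) (ha : a ∈ 𝒜 (n • d)) :
    sec r (ach j ht hd) (Away.mk 𝒜 ht n a ha) = 0 ↔ ∃ N, t ^ N * a ∈ eqs r j := by
  classical
  refine ⟨fun h => ?_, fun ⟨L, hL⟩ => ?_⟩
  · have hN : ∀ s : T, ∃ p q : ℕ, s.1.2 ^ p * (t ^ q * a) ∈ eqI r j (hT s.1 s.2).2 (hT s.1 s.2).1 := by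
      rintro ⟨⟨d', t'⟩, hs⟩
      obtain ⟨hd', ht'⟩ := hT _ hs
      obtain ⟨u, hu⟩ := mul_mem_eqI r j ht ht' hd (Nat.add_pos_left hd _) (Ideal.subset_span ⟨n, ha, h⟩ : a ∈ eqI r j ht hd)
      rw [eqI_congr r j _ _ (SetLike.mul_mem_graded ht' ht) (Nat.add_pos_left hd' _) (mul_comm t t') (add_comm d d')] at hu
      obtain ⟨v, hv⟩ := mem_eqI_of_mul r j ht' ht hd' (Nat.add_pos_left hd' _) hu
      refine ⟨v + u, v, ?_⟩
      rw [show t' ^ (v + u) * (t ^ v * a) = (t' * t) ^ v * (t' ^ u * a) by ring]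
      exact hv
    choose p q hpq using hN
    refine ⟨Finset.univ.sup q, mem_eqs_of_cover r j T hT hcov fun s hs => ⟨p ⟨s, hs⟩, ?_⟩⟩
    obtain ⟨m, hm⟩ := Nat.exists_eq_add_of_le (Finset.le_sup (f := q) (Finset.mem_univ (⟨s, hs⟩ : T)))
    rw [hm, show s.2 ^ p ⟨s, hs⟩ * (t ^ (q ⟨s, hs⟩ + m) * a) = t ^ m * (s.2 ^ p ⟨s, hs⟩ * (t ^ q ⟨s, hs⟩ * a)) by ring]
    exact Ideal.mul_mem_left _ _ (hpq ⟨s, hs⟩)
  · obtain ⟨N, hN⟩ := hL d t ht hd
    have hmem : t ^ N * (t ^ L * a) ∈ 𝒜 ((N + L + n) • d) := by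
      rw [← mul_assoc, ← pow_add, add_smul]
      exact SetLike.mul_mem_graded (SetLike.pow_mem_graded _ ht) ha
    have h := sec_eq_zero_of_mem r j ht hd hN (N + L + n)
    rw [mk_congr ht (decompose_of_mem_same 𝒜 hmem) _ hmem] at h
    refine Eq.trans (congrArg (sec r (ach j ht hd)) ?_) h
    ext
    simp only [Away.val_mk]
    rw [Localization.mk_eq_mk_iff, Localization.r_iff_exists]
    exact ⟨1, by simp; ring⟩

section change

variable {B : Type u} [CommRing B] {ℬ : ℕ → AddSubgroup B} [GradedRing ℬ] (ψ : 𝒜 →+*ᵍ ℬ) (j' : Proj ℬ ⟶ P)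
  (hψ : ℬ₊ ≤ (𝒜₊).map ψ) (hcomp : Proj.map ψ hψ ≫ j = j')

include hcomp in
theorem ach_map {d : ℕ} {t : A} (ht : t ∈ 𝒜 d) (hd : 0 < d) :
    Spec.map (CommRingCat.ofHom (Away.map ψ t)) ≫ ach j ht hd = ach j' (ψ.map_mem ht) hd := by
  subst hcomp
  simp only [ach]
  rw [← Category.assoc, ← Category.assoc, ← Proj.awayι_comp_map ψ hψ hd t ht]
  rfl

include hcomp in
theorem map_eqI_le {d : ℕ} {t : A} (ht : t ∈ 𝒜 d) (hd : 0 < d) :
    (eqI r j ht hd).map ψ ≤ eqI r j' (ψ.map_mem ht) hd := by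
  rw [eqI, Ideal.map_span, Ideal.span_le]
  rintro _ ⟨b, ⟨m, hb, hb0⟩, rfl⟩
  refine Ideal.subset_span ⟨m, ψ.map_mem hb, ?_⟩
  have h := secMap_sec (i := r) _ (ach_map j ψ j' hψ hcomp ht hd) (Away.mk 𝒜 ht m b hb)
  rw [hb0, map_zero, CommRingCat.hom_ofHom, Away.map_mk] at h
  exact h.symm

include hψ in
theorem cover_map (T : Finset (ℕ × A)) (hcov : ∀ y : ProjectiveSpectrum 𝒜, ∃ s ∈ T, s.2 ∉ y.asHomogeneousIdeal)
    (y : ProjectiveSpectrum ℬ) : ∃ s ∈ T, ψ s.2 ∉ y.asHomogeneousIdeal :=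
  hcov (ProjectiveSpectrum.comap ψ hψ y)

include hcomp in
theorem eqs_le_comap (T : Finset (ℕ × A)) (hT : ∀ s ∈ T, 0 < s.1 ∧ s.2 ∈ 𝒜 s.1)
    (hcov : ∀ y : ProjectiveSpectrum 𝒜, ∃ s ∈ T, s.2 ∉ y.asHomogeneousIdeal) {x : A} (hx : x ∈ eqs r j) :
    ψ x ∈ eqs r j' := by
  classical
  refine mem_eqs_of_cover r j' (T.image fun s => (s.1, ψ s.2)) ?_ ?_ ?_
  · intro s hs
    obtain ⟨s, hsT, rfl⟩ := Finset.mem_image.1 hs
    exact ⟨(hT s hsT).1, ψ.map_mem (hT s hsT).2⟩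
  · intro y
    obtain ⟨s, hs, hy⟩ := cover_map ψ hψ T hcov y
    exact ⟨_, Finset.mem_image_of_mem _ hs, hy⟩
  · intro s hs
    obtain ⟨s, hsT, rfl⟩ := Finset.mem_image.1 hs
    obtain ⟨N, hN⟩ := hx s.1 s.2 (hT s hsT).2 (hT s hsT).1
    refine ⟨N, map_eqI_le r j ψ j' hψ hcomp (hT s hsT).2 (hT s hsT).1 ?_⟩
    rw [← map_pow, ← map_mul]
    exact Ideal.mem_map_of_mem _ hN

variable (c : A) (hc : c ∈ 𝒜 0) (hloc : letI := ψ.toRingHom.toAlgebra; IsLocalization.Away c B)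

include hcomp hc hloc in
theorem eqI_le_map {d : ℕ} {t : A} (ht : t ∈ 𝒜 d) (hd : 0 < d) :
    eqI r j' (ψ.map_mem ht) hd ≤ (eqI r j ht hd).map ψ.toRingHom := by
  classical
  letI := ψ.toRingHom.toAlgebra
  haveI : IsLocalization.Away c B := hloc
  refine Ideal.span_le.2 ?_
  rintro b' ⟨m, hb', hb0⟩
  obtain ⟨k, a₀, ha₀⟩ := IsLocalization.Away.surj c b'
  change b' * ψ c ^ k = ψ a₀ at ha₀
  obtain ⟨a, ha, ha'⟩ : ∃ a, a ∈ 𝒜 (m • d) ∧ b' * ψ c ^ k = ψ a := by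
    refine ⟨(decompose 𝒜 a₀ (m • d) : A), SetLike.coe_mem _, ?_⟩
    have h1 : b' * ψ c ^ k ∈ ℬ (m • d) := by
      simpa using SetLike.mul_mem_graded hb' (SetLike.pow_mem_graded k (ψ.map_mem hc))
    rw [GradedRingHom.map_directSumDecompose, ← ha₀]
    exact (decompose_of_mem_same ℬ h1).symm
  obtain ⟨ho, hr⟩ := RelProjK.isOpenImmersion_specMap_away ψ c hc hloc ht
  haveI := ho
  obtain ⟨l, hl⟩ := exists_pow_kill (i := r) _ (ach_map j ψ j' hψ hcomp ht hd)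
    (fromZeroRingHom 𝒜 (Submonoid.powers t) ⟨c, hc⟩) hr (Away.mk 𝒜 ht m a ha) (by
      have e1 : Away.map ψ t (Away.mk 𝒜 ht m a ha) =
          fromZeroRingHom ℬ (Submonoid.powers (ψ t)) ⟨ψ c ^ k, by
            simpa using SetLike.pow_mem_graded k (ψ.map_mem hc)⟩ * Away.mk ℬ (ψ.map_mem ht) m b' hb' := by
        rw [Away.map_mk]
        ext
        simp only [val_mul, Away.val_mk, fromZeroRingHom, RingHom.coe_mk, MonoidHom.coe_mk, OneHom.coe_mk,
          HomogeneousLocalization.val_mk, Localization.mk_mul]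
        rw [Localization.mk_eq_mk_iff, Localization.r_iff_exists]
        exact ⟨1, by simp [← ha']; ring⟩
      rw [CommRingCat.hom_ofHom, e1, map_mul]
      exact mul_eq_zero_of_right _ hb0)
  have hmem : c ^ l * a ∈ eqI r j ht hd := by
    refine Ideal.subset_span ⟨m, by simpa using SetLike.mul_mem_graded (SetLike.pow_mem_graded l hc) ha, ?_⟩
    refine Eq.trans (congrArg (sec r (ach j ht hd)) ?_) hl
    ext
    simp only [val_mul, val_pow, Away.val_mk, fromZeroRingHom, RingHom.coe_mk, MonoidHom.coe_mk, OneHom.coe_mk,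
      HomogeneousLocalization.val_mk, Localization.mk_pow, Localization.mk_mul]
    rw [Localization.mk_eq_mk_iff, Localization.r_iff_exists]
    exact ⟨1, by simp⟩
  have hu : IsUnit (ψ c ^ (l + k)) := (IsLocalization.Away.algebraMap_isUnit (S := B) c).pow _
  have h2 := Ideal.mem_map_of_mem ψ.toRingHom hmem
  refine ((eqI r j ht hd).map ψ.toRingHom).mul_unit_mem_iff_mem hu |>.1 ?_
  rw [show b' * ψ c ^ (l + k) = ψ (c ^ l * a) by rw [map_mul, map_pow, ← ha']; ring]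
  exact h2

include hcomp hc hloc in
theorem exists_kill (T : Finset (ℕ × A)) (hT : ∀ s ∈ T, 0 < s.1 ∧ s.2 ∈ 𝒜 s.1)
    (hcov : ∀ y : ProjectiveSpectrum 𝒜, ∃ s ∈ T, s.2 ∉ y.asHomogeneousIdeal) {x : A} (hx : ψ x ∈ eqs r j') :
    ∃ k : ℕ, c ^ k * x ∈ eqs r j := by
  classical
  letI := ψ.toRingHom.toAlgebra
  haveI : IsLocalization.Away c B := hloc
  have hk : ∀ s : T, ∃ k N : ℕ, s.1.2 ^ N * (c ^ k * x) ∈ eqI r j (hT s.1 s.2).2 (hT s.1 s.2).1 := by
    rintro ⟨⟨d, t⟩, hs⟩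
    obtain ⟨hd, ht⟩ := hT _ hs
    obtain ⟨N, hN⟩ := hx d (ψ t) (ψ.map_mem ht) hd
    have h1 := eqI_le_map r j ψ j' hψ hcomp c hc hloc ht hd hN
    rw [show ψ t ^ N * ψ x = algebraMap A B (t ^ N * x) by
      show _ = ψ (t ^ N * x)
      rw [map_mul, map_pow]] at h1
    obtain ⟨⟨⟨i, hi⟩, ⟨_, k₁, rfl⟩⟩, h2⟩ := (IsLocalization.mem_map_algebraMap_iff (Submonoid.powers c) B).1 h1
    change algebraMap A B (t ^ N * x) * algebraMap A B (c ^ k₁) = algebraMap A B i at h2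
    rw [← map_mul] at h2
    obtain ⟨⟨_, k₂, rfl⟩, h3⟩ := (IsLocalization.eq_iff_exists (Submonoid.powers c) B).1 h2
    refine ⟨k₂ + k₁, N, ?_⟩
    change c ^ k₂ * (t ^ N * x * c ^ k₁) = c ^ k₂ * i at h3
    rw [show t ^ N * (c ^ (k₂ + k₁) * x) = c ^ k₂ * (t ^ N * x * c ^ k₁) by ring, h3]
    exact Ideal.mul_mem_left _ _ hi
  choose k N hkN using hk
  refine ⟨Finset.univ.sup k, mem_eqs_of_cover r j T hT hcov fun s hs => ⟨N ⟨s, hs⟩, ?_⟩⟩
  obtain ⟨m, hm⟩ := Nat.exists_eq_add_of_le (Finset.le_sup (f := k) (Finset.mem_univ (⟨s, hs⟩ : T)))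
  rw [hm, show s.2 ^ N ⟨s, hs⟩ * (c ^ (k ⟨s, hs⟩ + m) * x) = c ^ m * (s.2 ^ N ⟨s, hs⟩ * (c ^ k ⟨s, hs⟩ * x)) by ring]
  exact Ideal.mul_mem_left _ _ (hkN ⟨s, hs⟩)

end change

end GrothLib.RelProjSub10
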