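import Groth.Agent.Lib.RelProjSub10.Ideal
import Groth.Agent.Lib.ProjQ8.Closed
import Groth.Agent.Lib.RelCone8.QMapId

/-!
# The closed subscheme of a relative Proj cut out by a compatible family of homogeneous ideals
-/

set_option autoImplicit false
set_option linter.all false
set_option backward.isDefEq.respectTransparency false

universe u

open CategoryTheory CategoryTheory.Limits AlgebraicGeometry TopologicalSpace Opposite HomogeneousLocalization
open scoped HomogeneousIdeal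
open GrothLib.RelCone8

noncomputable section

namespace GrothLib.RelProjSub10

theorem domMap_eq {A B σ τ : Type u} [CommRing A] [SetLike σ A] [AddSubgroupClass σ A] {𝒜 : ℕ → σ} [GradedRing 𝒜]
    [CommRing B] [SetLike τ B] [AddSubgroupClass τ B] {ℬ : ℕ → τ} [GradedRing ℬ] (ψ : 𝒜 →+*ᵍ ℬ)
    (hψ : ℬ₊ ≤ (𝒜₊).map ψ) : domMap ψ = (RelCone.domOpen ψ).ι ≫ Proj.map ψ hψ := by
  refine hom_ext_domChart _ fun d f hd hf => ?_
  rw [domChart_domMap, ← Category.assoc, domChart_ι, Proj.awayι_comp_map ψ hψ hd f hf]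

theorem exists_cover {S P : Scheme.{u}} (𝒜 : RelProj.QCGrAlg S) (p : P ⟶ S)
    (chart : ∀ (U : S.Opens) (hU : IsAffineOpen U), (((p ⁻¹ᵁ U : P.Opens) : Scheme.{u}) ≅ Proj (𝒜.deg U hU)))
    [QuasiCompact p] (U : S.Opens) (hU : IsAffineOpen U) :
    ∃ T : Finset (ℕ × 𝒜.presheaf.obj (op U)), (∀ s ∈ T, 0 < s.1 ∧ s.2 ∈ 𝒜.deg U hU s.1) ∧
      ∀ y : ProjectiveSpectrum (𝒜.deg U hU), ∃ s ∈ T, s.2 ∉ y.asHomogeneousIdeal := by
  classical
  haveI : CompactSpace ↥((p ⁻¹ᵁ U : P.Opens) : Scheme.{u}) :=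
    isCompact_iff_compactSpace.1 (QuasiCompact.isCompact_preimage (f := p) U U.2 hU.isCompact)
  haveI : CompactSpace (Proj (𝒜.deg U hU)) := (chart U hU).hom.homeomorph.compactSpace
  let κ := {s : ℕ × 𝒜.presheaf.obj (op U) // 0 < s.1 ∧ s.2 ∈ 𝒜.deg U hU s.1}
  have hcov : (Set.univ : Set (Proj (𝒜.deg U hU))) ⊆ ⋃ s : κ, (Proj.basicOpen (𝒜.deg U hU) s.1.2 : Set (Proj (𝒜.deg U hU))) := by
    intro y _
    obtain ⟨m, f, hf, hm, w, hw⟩ := GrothLib.RelProjK.exists_awayι y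
    refine Set.mem_iUnion.2 ⟨⟨(m, f), hm, hf⟩, ?_⟩
    rw [← Proj.opensRange_awayι (𝒜.deg U hU) f hf hm]
    exact ⟨w, hw⟩
  obtain ⟨T, hT⟩ := isCompact_univ.elim_finite_subcover _ (fun s : κ => (Proj.basicOpen (𝒜.deg U hU) s.1.2).2) hcov
  refine ⟨T.image Subtype.val, fun s hs => ?_, fun y => ?_⟩
  · obtain ⟨s, -, rfl⟩ := Finset.mem_image.1 hs
    exact s.2
  · obtain ⟨s, hs, hy⟩ := Set.mem_iUnion₂.1 (hT (Set.mem_univ (y : Proj (𝒜.deg U hU))))
    exact ⟨s.1, Finset.mem_image_of_mem _ hs, hy⟩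

/-- A closed subscheme whose equations on a covering family of charts are given by compatible ideals is the
relative Proj of the quotient algebra. -/
theorem exists_model {S P Z : Scheme.{u}} (𝒜 : RelProj.QCGrAlg S)
    (p : P ⟶ S) (chart : ∀ (U : S.Opens) (hU : IsAffineOpen U), (((p ⁻¹ᵁ U : P.Opens) : Scheme.{u}) ≅ Proj (𝒜.deg U hU))) (hP : RelProj.IsRelProj 𝒜 p chart)
    (i : Z ⟶ P) [IsClosedImmersion i] {K : ∀ (U : S.Opens), IsAffineOpen U → Ideal (𝒜.presheaf.obj (op U))}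
    (hK : GrothLib.ProjQ8.IsCompat 𝒜 K) {J : Type u} (V : J → S.Opens) (hV : ∀ j, IsAffineOpen (V j)) (e : J → ℕ)
    (he : ∀ j, 0 < e j) (t : ∀ j, 𝒜.presheaf.obj (op (V j))) (ht : ∀ j, t j ∈ 𝒜.deg (V j) (hV j) (e j))
    (hcov : ∀ x : P, ∃ j, x ∈ Set.range (ach (RelProj.emb p chart (V j) (hV j)) (ht j) (he j)))
    (hsec : ∀ (j : J) (n : ℕ) (a : 𝒜.presheaf.obj (op (V j))) (ha : a ∈ 𝒜.deg (V j) (hV j) (n • e j)),
      ProjQ8.sec i (ach (RelProj.emb p chart (V j) (hV j)) (ht j) (he j)) (Away.mk (𝒜.deg (V j) (hV j)) (ht j) n a ha) = 0 ↔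
        ∃ N, t j ^ N * a ∈ K (V j) (hV j)) :
    ∃ (ℬ : RelProj.QCGrAlg S) (φ : 𝒜.toQCAlg ⟶ ℬ.toQCAlg) (hφ : RelProj.IsGradedHom φ) (PB : Scheme.{u})
      (pB : PB ⟶ S) (chartB : ∀ (U : S.Opens) (hU : IsAffineOpen U), (((pB ⁻¹ᵁ U : PB.Opens) : Scheme.{u}) ≅ Proj (ℬ.deg U hU)))
      (h : PB ⟶ P) (e : PB ≅ Z),
      (∀ (U : S.Opens), IsAffineOpen U → Function.Surjective (φ.hom.app (op U)).hom) ∧
        (∀ (U : S.Opens) (hU : IsAffineOpen U), RingHom.ker (φ.hom.app (op U)).hom = K U hU) ∧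
        RelProj.IsRelProj ℬ pB chartB ∧ RelProj.IsProjQMap (RelProj.QGrHom.ofHom φ hφ) p chart pB chartB h ∧
        e.hom ≫ i = h := by
  classical
  let em : ∀ (U : S.Opens) (hU : IsAffineOpen U), Proj (𝒜.deg U hU) ⟶ P := RelProj.emb p chart
  obtain ⟨ℬ, φ, hφ, hsurj, hker, hdeg⟩ := GrothLib.ProjQ8.exists_quotient hK
  let γ : ∀ (U : S.Opens) (hU : IsAffineOpen U), 𝒜.deg U hU →+*ᵍ ℬ.deg U hU := RelProj.gradedHomAt φ hφ
  have hirr : ∀ (U : S.Opens) (hU : IsAffineOpen U), (ℬ.deg U hU)₊ ≤ ((𝒜.deg U hU)₊).map (γ U hU) :=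
    fun U hU => GrothLib.ProjQ8.irrelevant_le_map_of_surjective _ (hsurj U hU)
  let q := GrothLib.RelProjK.projπ ℬ
  let chartB := GrothLib.RelProjK.projChart ℬ
  have hQ : RelProj.IsRelProj ℬ q chartB := GrothLib.RelProjK.isRelProj_proj ℬ
  obtain ⟨h, hh, -⟩ := GrothLib.RelProjK.isRelProjMap_existsUnique φ hφ hirr hP hQ
  have hhp : h ≫ p = q := GrothLib.RelProjK.relProjMap_comp hP hQ hh
  haveI : IsClosedImmersion h := GrothLib.RelProjK.property_relProjMap @IsClosedImmersion hP hQ hh fun U hU =>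
    GrothLib.RelProjK.isClosedImmersion_map_of_surjective (γ U hU) (hirr U hU) (hsurj U hU)
  have hemb : ∀ (U : S.Opens) (hU : IsAffineOpen U),
      RelProj.emb q chartB U hU ≫ h = Proj.map (γ U hU) (hirr U hU) ≫ em U hU := by
    intro U hU
    show RelProj.emb q chartB U hU ≫ h = _ ≫ RelProj.emb p chart U hU
    rw [RelProj.emb, Category.assoc, hh U hU, Iso.inv_hom_id_assoc]
    rfl
  -- `h` is `Proj φ` on all pairs
  have hQmap : RelProj.IsProjQMap (RelProj.QGrHom.ofHom φ hφ) p chart q chartB h := by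
    have htop : Gu (RelProj.QGrHom.ofHom φ hφ) q chartB = ⊤ :=
      eventually_top φ hφ hQ (n := 0) fun U k _ y hy => by
        obtain ⟨a, ha, hay⟩ := (hdeg U.1 U.2 k y).1 hy
        exact ⟨a, ha, hay⟩
    obtain ⟨v, hv, -⟩ := existsUnique_isQ (RelProj.QGrHom.ofHom φ hφ) hQ hP
    refine (isProjQMap_iff (RelProj.QGrHom.ofHom φ hφ) chartB chart h).2 ⟨htop, ?_⟩
    suffices e : (Gu (RelProj.QGrHom.ofHom φ hφ) q chartB).ι ≫ h = v by rw [e]; exact hv
    let 𝒰 : (Gu (RelProj.QGrHom.ofHom φ hφ) q chartB : Scheme.{u}).OpenCover :=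
      Scheme.Cover.mkOfCovers S.AffineZariskiSite _ (fun U => qEmb (RelProj.QGrHom.ofHom φ hφ) q chartB (pairSelf U))
        (fun x => by
          obtain ⟨U, hU, hx, -⟩ := exists_isAffineOpen_mem_and_subset
            (x := q ((Gu (RelProj.QGrHom.ofHom φ hφ) q chartB).ι x)) (U := ⊤) trivial
          have hx' : x ∈ (qEmb (RelProj.QGrHom.ofHom φ hφ) q chartB (pairSelf ⟨U, hU⟩)).opensRange := by
            rw [opensRange_qEmb (RelProj.QGrHom.ofHom φ hφ) hQ]; exact hx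
          exact ⟨⟨U, hU⟩, hx'⟩) inferInstance
    refine 𝒰.hom_ext _ _ fun (U : S.AffineZariskiSite) => ?_
    show qEmb _ q chartB (pairSelf U) ≫ _ = qEmb _ q chartB (pairSelf U) ≫ v
    rw [hv (pairSelf U), qEmb_ι_assoc]
    have hgu : gu (RelProj.QGrHom.ofHom φ hφ) (pairSelf U) = γ U.1 U.2 :=
      GradedRingHom.ext (gu_ofHom_self φ hφ U)
    rw [domMap_eq (gu (RelProj.QGrHom.ofHom φ hφ) (pairSelf U)) (by rw [hgu]; exact hirr U.1 U.2),
      GrothLib.RelProjK.map_congr_hom _ _ hgu (hirr U.1 U.2), Category.assoc]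
    exact congrArg (_ ≫ ·) (hemb U.1 U.2)
  have hcomp : ∀ j : J,
      i.ker.comap (ach (em (V j) (hV j)) (ht j) (he j)) = h.ker.comap (ach (em (V j) (hV j)) (ht j) (he j)) := by
    intro j
    have H0 : IsPullback (RelProj.emb q chartB (V j) (hV j)) (Proj.map (γ (V j) (hV j)) (hirr (V j) (hV j))) h
        (em (V j) (hV j)) := by
      refine (IsOpenImmersion.isPullback _ _ _ _ (hemb (V j) (hV j)) ?_).flip
      rw [GrothLib.RelProjK.opensRange_emb, GrothLib.RelProjK.opensRange_emb, ← Scheme.Hom.comp_preimage, hhp]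
    have H := (GrothLib.RelProjK.isPullback_awayι_map (γ (V j) (hV j)) (hirr (V j) (hV j)) (he j) (ht j)).paste_horiz H0
    refine GrothLib.ProjQ8.comap_ker_eq (i := i) _ h H ?_
    ext z
    obtain ⟨n, a, ha, rfl⟩ := Away.mk_surjective (𝒜.deg (V j) (hV j)) (ht j) z
    rw [RingHom.mem_ker, RingHom.mem_ker, CommRingCat.hom_ofHom, Away.map_mk]
    rw [hsec j n a ha]
    constructor
    · rintro ⟨N, hN⟩
      have hz : γ (V j) (hV j) (t j ^ N * a) = 0 := by
        show (φ.hom.app (op (V j))).hom (t j ^ N * a) = 0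
        rw [← RingHom.mem_ker, hker (V j) (hV j)]; exact hN
      apply val_injective
      rw [Away.val_mk, val_zero, Localization.mk_eq_mk', IsLocalization.mk'_eq_zero_iff]
      exact ⟨⟨_, N, rfl⟩, by rw [← hz, map_mul, map_pow]⟩
    · intro hz
      have hz' := congrArg HomogeneousLocalization.val hz
      rw [Away.val_mk, val_zero, Localization.mk_eq_mk', IsLocalization.mk'_eq_zero_iff] at hz'
      obtain ⟨⟨_, l, rfl⟩, hl⟩ := hz'
      refine ⟨l, ?_⟩
      rw [← hker (V j) (hV j), RingHom.mem_ker, map_mul, map_pow]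
      exact hl
  have heq : i.ker = h.ker := by
    let a : ∀ j : J, _ ⟶ P := fun j => ach (em (V j) (hV j)) (ht j) (he j)
    refine Scheme.IdealSheafData.ext_of_iSup_eq_top
      (fun j : J => ⟨(a j) ''ᵁ ⊤, (isAffineOpen_top _).image_of_isOpenImmersion (a j)⟩) (top_unique fun x _ => ?_)
      fun j => ?_
    · obtain ⟨j, w, hw⟩ := hcov x
      exact Opens.mem_iSup.mpr ⟨j, w, trivial, hw⟩
    · have h1 := congrArg (fun I => Scheme.IdealSheafData.ideal I ⟨⊤, isAffineOpen_top _⟩) (hcomp j)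
      simp only [Scheme.IdealSheafData.ideal_comap_of_isOpenImmersion] at h1
      exact Ideal.comap_injective_of_surjective _ (ConcreteCategory.bijective_of_isIso _).2 h1
  haveI := IsClosedImmersion.isIso_lift h i heq.symm
  refine ⟨ℬ, φ, hφ, GrothLib.RelProjK.proj ℬ, q, chartB, h,
    (asIso (IsClosedImmersion.lift h i heq.symm.le)).symm, hsurj, hker, hQ, hQmap, ?_⟩
  rw [Iso.symm_hom, asIso_inv, IsIso.inv_comp_eq, IsClosedImmersion.lift_fac]

end GrothLib.RelProjSub10
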